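import Groth.Agent.FpqcCov27.Basic
import Groth.Agent.GrpScheme.Basic
import Mathlib

/-!
# The largest open over which a morphism has a property, and flat open base change
-/

set_option autoImplicit false
set_option backward.isDefEq.respectTransparency false

universe u

open CategoryTheory CategoryTheory.Limits AlgebraicGeometry TopologicalSpace

namespace Groth.Agent.FpqcCov27

variable {P : MorphismProperty Scheme.{u}} [P.IsStableUnderBaseChange]

lemma isPullback_restrict {X Y X' Y' : Scheme.{u}} {g' : X' ⟶ X} {f' : X' ⟶ Y'} {f : X ⟶ Y} {g : Y' ⟶ Y}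
    (sq : IsPullback g' f' f g) {W : Y.Opens} {W' : Y'.Opens} (h : W' ≤ g ⁻¹ᵁ W) :
    ∃ k, IsPullback k (f' ∣_ W') (f ∣_ W) (g.resLE W W' h) := by
  have h1 : IsPullback ((f' ⁻¹ᵁ W').ι ≫ g') (f' ∣_ W') f (g.resLE W W' h ≫ W.ι) := by
    rw [Scheme.Hom.resLE_comp_ι]
    exact (isPullback_morphismRestrict f' W').flip.paste_horiz sq
  have h2 : IsPullback (f ⁻¹ᵁ W).ι (f ∣_ W) f W.ι := (isPullback_morphismRestrict f W).flip
  exact ⟨_, IsPullback.of_right' h1 h2⟩

lemma restrict_of_le {X Y X' Y' : Scheme.{u}} {g' : X' ⟶ X} {f' : X' ⟶ Y'} {f : X ⟶ Y} {g : Y' ⟶ Y}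
    (sq : IsPullback g' f' f g) {W : Y.Opens} {W' : Y'.Opens} (h : W' ≤ g ⁻¹ᵁ W) (hW : P (f ∣_ W)) :
    P (f' ∣_ W') := by
  obtain ⟨k, hk⟩ := isPullback_restrict sq h
  exact MorphismProperty.of_isPullback hk hW

lemma liftsAffines_of_isOpenMap {Z Y : Scheme.{u}} (q : Z ⟶ Y) (ho : IsOpenMap q) (hs : Function.Surjective q) :
    LiftsAffines q := by
  intro V hV
  classical
  have hcov : ∀ y : V, ∃ W : Z.Opens, IsCompact (W : Set Z) ∧ q.base '' (W : Set Z) ⊆ (V : Set Y) ∧ y.1 ∈ q.base '' (W : Set Z) := by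
    intro y
    obtain ⟨z, hz⟩ := hs y.1
    obtain ⟨W, hW, hzW, hle⟩ := exists_isAffineOpen_mem_and_subset (x := z) (U := q ⁻¹ᵁ V)
      (show q z ∈ V by rw [hz]; exact y.2)
    exact ⟨W, hW.isCompact, Set.image_subset_iff.mpr hle, z, hzW, hz⟩
  choose W hWc hWV hyW using hcov
  obtain ⟨t, ht⟩ := hV.isCompact.elim_finite_subcover (fun y : V => q.base '' (W y : Set Z))
    (fun y => ho _ (W y).2) (fun y hy => Set.mem_iUnion.mpr ⟨⟨y, hy⟩, hyW ⟨y, hy⟩⟩)
  refine ⟨⨆ y : t, W y.1, ?_, ?_⟩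
  · rw [Opens.coe_iSup]
    exact isCompact_iUnion fun y => hWc y.1
  · rw [Opens.coe_iSup, Set.image_iUnion]
    refine Set.Subset.antisymm (Set.iUnion_subset fun y => hWV y.1) (ht.trans ?_)
    exact Set.iUnion₂_subset fun y hy => Set.subset_iUnion_of_subset ⟨y, hy⟩ subset_rfl

variable [IsZariskiLocalAtTarget P] [P.DescendsAlong (@Surjective ⊓ @Flat ⊓ @QuasiCompact)]

/-- An open of a flat open base change over which the property holds lies over the largest such open. -/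
theorem le_preimage_maxOpen {X Y X' Y' : Scheme.{u}} {g' : X' ⟶ X} {f' : X' ⟶ Y'} {f : X ⟶ Y} {g : Y' ⟶ Y}
    [Flat g] (hg : IsOpenMap g) (sq : IsPullback g' f' f g) {W : Y.Opens}
    (hmax : ∀ W₀ : Y.Opens, P (f ∣_ W₀) → W₀ ≤ W) {W₁ : Y'.Opens} (h : P (f' ∣_ W₁)) : W₁ ≤ g ⁻¹ᵁ W := by
  let U : Y.Opens := ⟨g.base '' (W₁ : Set Y'), hg _ W₁.2⟩
  have hle : W₁ ≤ g ⁻¹ᵁ U := fun y hy => ⟨y, hy, rfl⟩
  let q := g.resLE U W₁ hle
  have hval : ∀ y, (q y).1 = g y.1 := fun y => by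
    show U.ι (q y) = g (W₁.ι y)
    rw [← Scheme.Hom.comp_apply, Scheme.Hom.resLE_comp_ι, Scheme.Hom.comp_apply]
  have hqs : Function.Surjective q := fun y => by
    obtain ⟨z, hz, hzy⟩ := y.2
    exact ⟨⟨z, hz⟩, Subtype.ext ((hval ⟨z, hz⟩).trans hzy)⟩
  have hqo : IsOpenMap q := fun A hA => by
    have h1 : IsOpen (g.base '' (W₁.ι.base '' A)) := hg _ (W₁.ι.isOpenEmbedding.isOpenMap _ hA)
    refine isOpen_induced_iff.mpr ⟨_, h1, ?_⟩
    ext y
    constructor
    · rintro ⟨_, ⟨a, ha, rfl⟩, hay⟩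
      exact ⟨a, ha, Subtype.ext ((hval a).trans hay)⟩
    · rintro ⟨a, ha, rfl⟩
      exact ⟨_, ⟨a, ha, rfl⟩, (hval a).symm⟩
  have : Flat q := by
    show Flat (g.resLE U W₁ hle)
    delta Scheme.Hom.resLE
    infer_instance
  have hU : P (f ∣_ U) := by
    obtain ⟨k, hk⟩ := isPullback_restrict sq hle
    refine of_pullback_snd (liftsAffines_of_isOpenMap q hqo hqs) (f ∣_ U) ?_
    rw [← hk.flip.flip.isoPullback_inv_snd, P.cancel_left_of_respectsIso]
    exact h
  exact fun y hy => hmax U hU ⟨y, hy, rfl⟩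

section Action

open MonoidalCategory CartesianMonoidalCategory MonObj GrpObj

variable {S : Scheme.{u}} {G H : Over S} [GrpObj G] [GrpObj H] (u : G ⟶ H) [IsMonHom u]

/-- A homomorphism lets the source act on the target by translations. -/
noncomputable def homAction : AlgGrp.Action G H :=
  { act := (fst G H ≫ u) * snd G H
    one_act := by
      rw [MonObj.comp_mul, whiskerRight_fst_assoc, whiskerRight_snd, IsMonHom.one_hom,
        toUnit_unique (fst (𝟙_ (Over S)) H) (toUnit _), ← Hom.one_def, _root_.one_mul, leftUnitor_hom]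
    mul_act := by
      have h1 : μ[G] ≫ u = (fst G G ≫ u) * (snd G G ≫ u) := by
        rw [← MonObj.mul_comp, ← mul_eq_mul]
      rw [MonObj.comp_mul, whiskerRight_fst_assoc, whiskerRight_snd, h1, MonObj.comp_mul,
        _root_.mul_assoc, MonObj.comp_mul (G ◁ _), whiskerLeft_fst_assoc, whiskerLeft_snd,
        MonObj.comp_mul, MonObj.comp_mul, MonObj.comp_mul]
      simp only [associator_hom_fst_assoc, associator_hom_snd_fst_assoc, associator_hom_snd_snd] }

lemma shear_comp_whiskerLeft :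
    (GrpScheme.Basic.shear (GrpScheme.Basic.leftAction G) (𝟙 G)).hom ≫ G ◁ u =
      G ◁ u ≫ (GrpScheme.Basic.shear (homAction u) (𝟙 G)).hom := by
  let φ := GrpScheme.Basic.shear (homAction u) (𝟙 G)
  let ψ := GrpScheme.Basic.shear (GrpScheme.Basic.leftAction G) (𝟙 G)
  show ψ.hom ≫ G ◁ u = G ◁ u ≫ φ.hom
  refine CartesianMonoidalCategory.hom_ext _ _ ?_ ?_
  · simp [φ, ψ, GrpScheme.Basic.shear]
  · rw [Category.assoc, Category.assoc, whiskerLeft_snd,
      show φ.hom ≫ snd G H = (homAction u).act from (GrpScheme.Basic.act_eq_shear_comp_snd (homAction u)).symm,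
      show ψ.hom ≫ snd G G ≫ u = μ[G] ≫ u by rw [← Category.assoc, ← GrpScheme.Basic.mul_eq_shear_comp_snd]]
    show μ[G] ≫ u = G ◁ u ≫ ((fst G H ≫ u) * snd G H)
    rw [MonObj.comp_mul, whiskerLeft_fst_assoc, whiskerLeft_snd, ← MonObj.mul_comp, ← mul_eq_mul]

end Action

/-- The preimage of the largest open is invariant under automorphisms of the flat base change. -/
theorem maxOpen_invariant {X Y X' Y' : Scheme.{u}} {g' : X' ⟶ X} {f' : X' ⟶ Y'} {f : X ⟶ Y} {g : Y' ⟶ Y}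
    [Flat g] (hg : IsOpenMap g) (sq : IsPullback g' f' f g) {W : Y.Opens} (hW : P (f ∣_ W))
    (hmax : ∀ W₀ : Y.Opens, P (f ∣_ W₀) → W₀ ≤ W) (ψ : X' ≅ X') (φ : Y' ≅ Y')
    (hcomm : ψ.hom ≫ f' = f' ≫ φ.hom) (y : Y') (hy : g y ∈ W) : g (φ.hom y) ∈ W := by
  have hW' : P (f' ∣_ (g ⁻¹ᵁ W)) := restrict_of_le sq le_rfl hW
  have hcomm' : ψ.inv ≫ f' = f' ≫ φ.inv := by
    rw [Iso.inv_comp_eq, ← Category.assoc, hcomm, Category.assoc, Iso.hom_inv_id, Category.comp_id]
  have sq2 : IsPullback ψ.inv f' f' φ.inv := IsPullback.of_horiz_isIso ⟨hcomm'⟩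
  have hW₁ : P (f' ∣_ (φ.inv ⁻¹ᵁ (g ⁻¹ᵁ W))) := restrict_of_le sq2 le_rfl hW'
  have hmem : φ.hom y ∈ φ.inv ⁻¹ᵁ (g ⁻¹ᵁ W) := by
    show g (φ.inv (φ.hom y)) ∈ W
    rw [← Scheme.Hom.comp_apply φ.hom, Iso.hom_inv_id]
    exact hy
  exact le_preimage_maxOpen hg sq hmax hW₁ hmem

open MonoidalCategory CartesianMonoidalCategory MonObj GrpObj in
/-- The largest open of the target of a homomorphism with the property pulls back to a set stable under translations. -/
theorem mul_mem_preimage_maxOpen {S : Scheme.{u}} {G H : Over S} [GrpObj G] [GrpObj H] (u : G ⟶ H) [IsMonHom u]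
    [Flat G.hom] [UniversallyOpen G.hom] {W : H.left.Opens} (hW : P (u.left ∣_ W))
    (hmax : ∀ W' : H.left.Opens, P (u.left ∣_ W') → W' ≤ W) (z : (G ⊗ G).left)
    (hz : (snd G G).left z ∈ u.left ⁻¹ᵁ W) : μ[G].left z ∈ u.left ⁻¹ᵁ W := by
  have hcomm := shear_comp_whiskerLeft u
  have hsnd : (GrpScheme.Basic.shear (homAction u) (𝟙 G)).hom ≫ snd G H = (homAction u).act :=
    (GrpScheme.Basic.act_eq_shear_comp_snd _).symm
  have hμ : (GrpScheme.Basic.shear (GrpScheme.Basic.leftAction G) (𝟙 G)).hom ≫ snd G G = μ[G] :=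
    GrpScheme.Basic.mul_eq_shear_comp_snd.symm
  revert hcomm hsnd hμ
  generalize GrpScheme.Basic.shear (homAction u) (𝟙 G) = φ
  generalize GrpScheme.Basic.shear (GrpScheme.Basic.leftAction G) (𝟙 G) = ψ
  intro hcomm _ hμ
  have sq : IsPullback (snd G G).left (G ◁ u).left u.left (snd G H).left :=
    ((GrpScheme.Basic.isPullback_whiskerLeft u).map (Over.forget S)).flip
  have hflat : Flat (snd G H).left := GrpScheme.Basic.snd_left_mem @Flat inferInstance
  have : UniversallyOpen (snd G H).left := GrpScheme.Basic.snd_left_mem @UniversallyOpen inferInstance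
  have h := maxOpen_invariant (snd G H).left.isOpenMap sq hW hmax ((Over.forget S).mapIso ψ)
    ((Over.forget S).mapIso φ) (congrArg Over.Hom.left hcomm) ((G ◁ u).left z) (by
      rw [← Scheme.Hom.comp_apply, ← Over.comp_left, whiskerLeft_snd, Over.comp_left, Scheme.Hom.comp_apply]
      exact hz)
  show u.left (μ[G].left z) ∈ W
  have e : G ◁ u ≫ φ.hom ≫ snd G H = μ[G] ≫ u := by
    rw [← reassoc_of% hcomm, whiskerLeft_snd, ← Category.assoc, hμ]
  have e' : u.left (μ[G].left z) = (snd G H).left (φ.hom.left ((G ◁ u).left z)) := by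
    rw [← Scheme.Hom.comp_apply, ← Over.comp_left, ← e]
    rfl
  rw [e']
  exact h

end Groth.Agent.FpqcCov27
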