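import Groth.Agent.FpqcCov27.Basic
import Groth.Agent.GrpScheme.Basic
import Groth.Agent.GrpdLib.GrpOver
import Groth.Agent.AlgSp.GorCore
import Mathlib

/-!
# Quotients of group schemes by monomorphisms, presented by a cartesian square
-/

set_option autoImplicit false
set_option backward.isDefEq.respectTransparency false

universe u

open CategoryTheory CategoryTheory.Limits MonoidalCategory CartesianMonoidalCategory MonObj GrpObj AlgebraicGeometry

namespace Groth.Agent.FpqcCov27

variable {S : Scheme.{u}} {G G' G'' : Over S} [GrpObj G] [GrpObj G'] {u : G' ⟶ G} [IsMonHom u] {p : G ⟶ G''}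

/-- The fibre of the unit is the subgroup. -/
theorem isPullback_unit [Mono u] (hsq : IsPullback ((G ◁ u) ≫ μ[G]) (fst G G') p p) :
    IsPullback u (toUnit G') p (η[G] ≫ p) := by
  have hu : lift (1 : G' ⟶ G) (𝟙 G') ≫ (G ◁ u) ≫ μ[G] = u := by
    rw [lift_whiskerLeft_assoc, Category.id_comp, ← Hom.mul_def, _root_.one_mul]
  have hw : u ≫ p = toUnit G' ≫ η[G] ≫ p := by
    have h := lift (1 : G' ⟶ G) (𝟙 G') ≫= hsq.w
    rw [Category.assoc, reassoc_of% hu, lift_fst_assoc, Hom.one_def, Category.assoc] at h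
    exact h
  refine ⟨⟨hw⟩, ⟨PullbackCone.IsLimit.mk _
    (fun s => hsq.lift s.fst 1 (by rw [s.condition, toUnit_unique s.snd (toUnit _), Hom.one_def, Category.assoc]) ≫
      snd G G')
    (fun s => ?_) (fun s => toUnit_unique _ _) (fun s m hm _ => ?_)⟩⟩
  · set l := hsq.lift s.fst 1 _
    have h1 : l ≫ (G ◁ u) ≫ μ[G] = s.fst := hsq.lift_fst _ _ _
    have h2 : l ≫ fst G G' = 1 := hsq.lift_snd _ _ _
    have h3 : l = lift 1 (l ≫ snd G G') := CartesianMonoidalCategory.hom_ext _ _ (by rw [lift_fst, h2]) (by rw [lift_snd])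
    rw [h3, lift_whiskerLeft_assoc, ← Hom.mul_def, _root_.one_mul] at h1
    exact h1
  · set l := hsq.lift s.fst 1 _
    have h : l = lift 1 m := by
      refine hsq.hom_ext ?_ ?_
      · rw [hsq.lift_fst, lift_whiskerLeft_assoc, ← Hom.mul_def, _root_.one_mul, hm]
      · rw [hsq.lift_snd, lift_fst]
    rw [h, lift_snd]

lemma isImmersion_unit_comp : IsImmersion (η[G] ≫ p).left := by
  have : IsImmersion ((η[G] ≫ p).left ≫ G''.hom) := by
    rw [Over.w]; exact inferInstanceAs (IsImmersion (𝟙 S))
  exact IsImmersion.of_comp _ G''.hom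

lemma isPullback_whiskerLeft_snd {X Y T : Over S} (f : X ⟶ Y) :
    IsPullback (T ◁ f) (snd T X) (snd T Y) f where
  w := whiskerLeft_snd T f
  isLimit' := ⟨PullbackCone.IsLimit.mk _ (fun s => lift (s.fst ≫ fst T Y) s.snd)
    (fun s => CartesianMonoidalCategory.hom_ext _ _ (by simp) (by simp [s.condition]))
    (fun s => by simp)
    (fun s m h1 h2 => CartesianMonoidalCategory.hom_ext _ _ (by simp [← h1]) (by simp [← h2]))⟩

/-- A morphism covered by a flat morphism lifting affines is such that `P p` follows from `P` of the projection. -/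
theorem of_fst {P : MorphismProperty Scheme.{u}} [P.IsStableUnderBaseChange] [IsZariskiLocalAtTarget P]
    [P.DescendsAlong (@Surjective ⊓ @Flat ⊓ @QuasiCompact)]
    {Z : Scheme.{u}} (q : Z ⟶ G''.left) (r : Z ⟶ G.left) (hr : r ≫ p.left = q) [Flat q]
    (hcov : LiftsAffines q) (hsq : IsPullback ((G ◁ u) ≫ μ[G]) (fst G G') p p) (h : P (fst G G').left) : P p.left := by
  refine of_pullback_snd hcov p.left ?_
  have h1 := GrpdLib.GrpOver.isPullback_left hsq
  have h2 : IsPullback (pullback.fst p.left q) (pullback.snd p.left q) p.left (r ≫ p.left) :=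
    hr.symm ▸ IsPullback.of_hasPullback p.left q
  have h3 := (IsPullback.of_hasPullback (fst G G').left r).paste_horiz h1
  rw [← h2.isoIsPullback_hom_snd _ _ h3, P.cancel_left_of_respectsIso]
  exact MorphismProperty.pullback_snd _ _ h

omit [GrpObj G'] in
lemma isPullback_fst : IsPullback (snd G G').left (fst G G').left G'.hom G.hom :=
  (IsPullback.of_hasPullback G.hom G'.hom).flip

lemma of_fst_left {P : MorphismProperty Scheme.{u}} [P.IsStableUnderBaseChange] (h : P (fst G G').left) :
    P G'.hom := by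
  have h1 : IsPullback (lift (toUnit G' ≫ η[G]) (𝟙 G')).left G'.hom (fst G G').left η[G].left := by
    refine IsPullback.of_right ?_ ?_ (isPullback_fst (G := G) (G' := G'))
    · rw [← Over.comp_left, lift_snd, Over.id_left, show η[G].left ≫ G.hom = 𝟙 S from Over.w η[G]]
      exact IsPullback.of_vert_isIso ⟨by simp⟩ |>.flip
    · rw [← Over.comp_left, lift_fst, Over.comp_left]
      congr 1
  exact MorphismProperty.of_isPullback (P := P) h1 h

/-- Flatness descends along flat surjections of the source. -/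
theorem flat_of_comp {X Y T : Scheme.{u}} (f : X ⟶ Y) (g : Y ⟶ T) [Flat f] [Surjective f] [Flat (f ≫ g)] :
    Flat g := by
  rw [Flat.iff_flat_stalkMap]
  intro y
  obtain ⟨x, rfl⟩ := f.surjective y
  have h : ((f ≫ g).stalkMap x).hom.Flat := Flat.stalkMap _ x
  rw [Scheme.Hom.stalkMap_comp, CommRingCat.hom_comp] at h
  exact AlgSp.GorCore.flat_of_comp_flat _ _ (Flat.stalkMap f x) h

/-- Reducedness descends along a flat surjection factoring through a reduced scheme. -/
theorem isReduced_of_factor {X Y Z : Scheme.{u}} (r : Z ⟶ X) (f : X ⟶ Y) (q : Z ⟶ Y) (hr : r ≫ f = q)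
    [Flat q] [Surjective q] [IsReduced X] : IsReduced Y := by
  subst hr
  have hred : ∀ y : Y, _root_.IsReduced (Y.presheaf.stalk y) := fun y => by
    obtain ⟨z, rfl⟩ := (r ≫ f).surjective y
    have hinj : Function.Injective ((r ≫ f).stalkMap z).hom := by
      let := ((r ≫ f).stalkMap z).hom.toAlgebra
      have : Module.Flat (Y.presheaf.stalk ((r ≫ f) z)) (Z.presheaf.stalk z) := Flat.stalkMap (r ≫ f) z
      have : IsLocalHom (algebraMap (Y.presheaf.stalk ((r ≫ f) z)) (Z.presheaf.stalk z)) :=
        inferInstanceAs (IsLocalHom ((r ≫ f).stalkMap z).hom)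
      have := Module.FaithfullyFlat.of_flat_of_isLocalHom (A := Y.presheaf.stalk ((r ≫ f) z)) (B := Z.presheaf.stalk z)
      exact FaithfulSMul.algebraMap_injective (Y.presheaf.stalk ((r ≫ f) z)) (Z.presheaf.stalk z)
    rw [Scheme.Hom.stalkMap_comp, CommRingCat.hom_comp, RingHom.coe_comp] at hinj
    exact isReduced_of_injective (f.stalkMap (r z)).hom hinj.of_comp
  exact isReduced_of_isReduced_stalk Y

end Groth.Agent.FpqcCov27
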