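import Groth.Agent.FpqcCov27.Quot
import Mathlib

/-!
# Group structures on fpqc quotients by normal subgroups
-/

set_option autoImplicit false
set_option backward.isDefEq.respectTransparency false

universe v w u

open CategoryTheory CategoryTheory.Limits MonoidalCategory CartesianMonoidalCategory MonObj GrpObj AlgebraicGeometry

namespace Groth.Agent.FpqcCov27

/-- Singleton fpqc covers. -/
def Covers : MorphismProperty Scheme.{u} := fun _ Y q => Presieve.singleton q ∈ Scheme.fpqcPrecoverage Y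

instance : Covers.{u}.IsStableUnderBaseChange where
  of_isPullback {X Y Y' S f g f' g'} sq hg := by
    have hg' : Presieve.singleton g ∈ Scheme.fpqcPrecoverage S := hg
    rw [← Presieve.ofArrows_pUnit.{u + 1}] at hg'
    have h := Precoverage.IsStableUnderBaseChange.mem_coverings_of_isPullback
      (fun _ : PUnit.{u + 2} => g) hg' f (fun _ => g') (fun _ => f') (fun _ => sq.flip)
    rw [Presieve.ofArrows_pUnit.{u + 1}] at h
    exact h

instance : Covers.{u}.IsStableUnderComposition where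
  comp_mem {X Y Z} f g hf hg := by
    have hg' : Presieve.singleton g ∈ Scheme.fpqcPrecoverage Z := hg
    have hf' : Presieve.singleton f ∈ Scheme.fpqcPrecoverage Y := hf
    rw [← Presieve.ofArrows_pUnit.{u + 1}] at hg' hf'
    have h := Precoverage.IsStableUnderComposition.comp_mem_coverings
      (fun _ : PUnit.{u + 2} => g) hg' (σ := fun _ => PUnit.{u + 2}) (fun _ _ => f) (fun _ => hf')
    have he : (Presieve.ofArrows (fun _ : Σ _ : PUnit.{u + 2}, PUnit.{u + 2} => X) fun _ => f ≫ g) =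
        Presieve.singleton (f ≫ g) := by
      refine le_antisymm ?_ ?_
      · rintro W a ⟨i⟩
        exact Presieve.singleton_self _
      · rintro W a ⟨⟩
        exact Presieve.ofArrows.mk ⟨PUnit.unit, PUnit.unit⟩
    rw [he] at h
    exact h

theorem effectiveEpi_of_covers {Z Y : Scheme.{u}} {q : Z ⟶ Y} (h : Covers q) : EffectiveEpi q := by
  rw [← Sieve.effectiveEpimorphic_singleton,
    Presieve.EffectiveEpimorphic.iff_forall_isSheafFor_yoneda]
  intro T
  exact (GrothendieckTopology.Subcanonical.isSheaf_of_isRepresentable _).isSheafFor _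
    (Precoverage.generate_mem_toGrothendieck h)

lemma tensorHom_covers {S : Scheme.{u}} {A B C D : Over S} (f : A ⟶ B) (g : C ⟶ D)
    (hf : Covers f.left) (hg : Covers g.left) : Covers (f ⊗ₘ g).left := by
  rw [MonoidalCategory.tensorHom_def, Over.comp_left]
  exact MorphismProperty.comp_mem _ _ _ (GrpScheme.Basic.whiskerRight_mem Covers f C hf)
    (GrpScheme.Basic.whiskerLeft_mem Covers g B hg)

lemma epi_of_covers {S : Scheme.{u}} {A B : Over S} (f : A ⟶ B) (hf : Covers f.left) : Epi f := by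
  have := effectiveEpi_of_covers hf
  exact (Over.forget S).epi_of_epi_map (inferInstanceAs (Epi f.left))

section Image

variable {C : Type w} [Category.{v} C] [CartesianMonoidalCategory C] {G Q : C} [GrpObj G]

/-- A quotient of a group object to which multiplication and inversion descend is a group object. -/
theorem exists_grpObj_quot (p : G ⟶ Q) [Epi p] [Epi (p ⊗ₘ p)] [Epi ((p ⊗ₘ p) ⊗ₘ p)]
    (m : Q ⊗ Q ⟶ Q) (hm : (p ⊗ₘ p) ≫ m = μ[G] ≫ p) (i : Q ⟶ Q) (hi : p ≫ i = ι[G] ≫ p) :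
    ∃ inst : GrpObj Q, IsMonHom p ∧ inst.mul = m := by
  let mo : MonObj Q :=
  { one := η[G] ≫ p
    mul := m
    one_mul := by
      have : Epi (𝟙_ C ◁ p) := by
        rw [show 𝟙_ C ◁ p = (λ_ G).hom ≫ p ≫ (λ_ Q).inv by
          rw [← leftUnitor_naturality_assoc, Iso.hom_inv_id, Category.comp_id]]
        infer_instance
      rw [← cancel_epi (𝟙_ C ◁ p)]
      calc 𝟙_ C ◁ p ≫ (η[G] ≫ p) ▷ Q ≫ m = η[G] ▷ G ≫ (p ⊗ₘ p) ≫ m := by
            rw [← MonoidalCategory.id_tensorHom, ← MonoidalCategory.tensorHom_id,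
              ← MonoidalCategory.tensorHom_id, MonoidalCategory.tensorHom_comp_tensorHom_assoc,
              MonoidalCategory.tensorHom_comp_tensorHom_assoc]
            simp
        _ = 𝟙_ C ◁ p ≫ (λ_ Q).hom := by
            rw [hm, MonObj.one_mul_assoc, leftUnitor_naturality]
    mul_one := by
      have : Epi (p ▷ 𝟙_ C) := by
        rw [show p ▷ 𝟙_ C = (ρ_ G).hom ≫ p ≫ (ρ_ Q).inv by
          rw [← rightUnitor_naturality_assoc, Iso.hom_inv_id, Category.comp_id]]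
        infer_instance
      rw [← cancel_epi (p ▷ 𝟙_ C)]
      calc p ▷ 𝟙_ C ≫ Q ◁ (η[G] ≫ p) ≫ m = G ◁ η[G] ≫ (p ⊗ₘ p) ≫ m := by
            rw [← MonoidalCategory.id_tensorHom, ← MonoidalCategory.id_tensorHom,
              ← MonoidalCategory.tensorHom_id, MonoidalCategory.tensorHom_comp_tensorHom_assoc,
              MonoidalCategory.tensorHom_comp_tensorHom_assoc]
            simp
        _ = p ▷ 𝟙_ C ≫ (ρ_ Q).hom := by
            rw [hm, MonObj.mul_one_assoc, rightUnitor_naturality]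
    mul_assoc := by
      rw [← cancel_epi ((p ⊗ₘ p) ⊗ₘ p)]
      have h1 : ((p ⊗ₘ p) ⊗ₘ p) ≫ m ▷ Q ≫ m = μ[G] ▷ G ≫ μ[G] ≫ p := by
        calc _ = (((p ⊗ₘ p) ≫ m) ⊗ₘ p) ≫ m := by
              rw [← MonoidalCategory.tensorHom_id, MonoidalCategory.tensorHom_comp_tensorHom_assoc,
                Category.comp_id]
          _ = μ[G] ▷ G ≫ (p ⊗ₘ p) ≫ m := by
              rw [← MonoidalCategory.tensorHom_id, MonoidalCategory.tensorHom_comp_tensorHom_assoc,
                Category.id_comp, hm]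
          _ = _ := by rw [hm]
      have h2 : ((p ⊗ₘ p) ⊗ₘ p) ≫ (α_ Q Q Q).hom ≫ Q ◁ m ≫ m =
          (α_ G G G).hom ≫ G ◁ μ[G] ≫ μ[G] ≫ p := by
        calc _ = (α_ G G G).hom ≫ (p ⊗ₘ ((p ⊗ₘ p) ≫ m)) ≫ m := by
              rw [MonoidalCategory.associator_naturality_assoc, ← MonoidalCategory.id_tensorHom,
                MonoidalCategory.tensorHom_comp_tensorHom_assoc, Category.comp_id]
          _ = (α_ G G G).hom ≫ G ◁ μ[G] ≫ (p ⊗ₘ p) ≫ m := by
              rw [← MonoidalCategory.id_tensorHom, MonoidalCategory.tensorHom_comp_tensorHom_assoc,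
                Category.id_comp, hm]
          _ = _ := by rw [hm]
      rw [h1, h2]
      exact MonObj.mul_assoc_assoc G p }
  let g : GrpObj Q :=
  { mo with
    inv := i
    left_inv := by
      rw [← cancel_epi p]
      show p ≫ lift i (𝟙 Q) ≫ m = p ≫ toUnit Q ≫ η[G] ≫ p
      rw [comp_lift_assoc, Category.comp_id, hi, comp_toUnit_assoc,
        show lift (ι[G] ≫ p) p = lift ι[G] (𝟙 G) ≫ (p ⊗ₘ p) by simp [lift_map],
        Category.assoc, hm, GrpObj.left_inv_assoc]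
    right_inv := by
      rw [← cancel_epi p]
      show p ≫ lift (𝟙 Q) i ≫ m = p ≫ toUnit Q ≫ η[G] ≫ p
      rw [comp_lift_assoc, Category.comp_id, hi, comp_toUnit_assoc,
        show lift p (ι[G] ≫ p) = lift (𝟙 G) ι[G] ≫ (p ⊗ₘ p) by simp [lift_map],
        Category.assoc, hm, GrpObj.right_inv_assoc] }
  exact ⟨g, { one_hom := rfl, mul_hom := hm.symm }, rfl⟩

end Image

variable {S : Scheme.{u}} {G G' G'' : Over S} [GrpObj G] [GrpObj G'] {u : G' ⟶ G} [IsMonHom u] {p : G ⟶ G''}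

omit [GrpObj G'] [IsMonHom u] in
lemma exists_eq_mul (hsq : IsPullback ((G ◁ u) ≫ μ[G]) (fst G G') p p) {T : Over S} (a b : T ⟶ G)
    (h : a ≫ p = b ≫ p) : ∃ x : T ⟶ G', a = b * (x ≫ u) := by
  refine ⟨hsq.lift a b h ≫ snd G G', ?_⟩
  conv_lhs => rw [← hsq.lift_fst a b h]
  have h3 : hsq.lift a b h = lift b (hsq.lift a b h ≫ snd G G') :=
    CartesianMonoidalCategory.hom_ext _ _ (by rw [lift_fst, hsq.lift_snd]) (by rw [lift_snd])
  rw [h3, lift_whiskerLeft_assoc, ← Hom.mul_def, lift_snd]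

omit [GrpObj G'] [IsMonHom u] in
lemma mul_comp_eq (hsq : IsPullback ((G ◁ u) ≫ μ[G]) (fst G G') p p) {T : Over S} (b : T ⟶ G) (x : T ⟶ G') :
    (b * (x ≫ u)) ≫ p = b ≫ p := by
  have h := lift b x ≫= hsq.w
  rw [lift_fst_assoc, Category.assoc, lift_whiskerLeft_assoc] at h
  rw [Hom.mul_def, Category.assoc]
  exact h

/-- The group structure on a quotient by a normal subgroup. -/
theorem exists_grpObj_quotient [Mono u] (hsq : IsPullback ((G ◁ u) ≫ μ[G]) (fst G G') p p)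
    (hN : AlgGrp.IsNormalHom u) {Z : Over S} (r : Z ⟶ G) (hc : Covers (r ≫ p).left) :
    ∃ _ : GrpObj G'', IsMonHom p ∧ ∀ m : G'' ⊗ G'' ⟶ G'', (p ⊗ₘ p) ≫ m = μ[G] ≫ p → m = μ[G''] := by
  let q := r ≫ p
  have hqq : Covers (q ⊗ₘ q).left := tensorHom_covers q q hc hc
  have e1 : Epi p := by
    have := epi_of_covers q hc
    exact epi_of_epi r p
  have e2 : Epi (p ⊗ₘ p) := by
    have : Epi ((r ⊗ₘ r) ≫ (p ⊗ₘ p)) := by
      rw [MonoidalCategory.tensorHom_comp_tensorHom]; exact epi_of_covers _ hqq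
    exact epi_of_epi (r ⊗ₘ r) (p ⊗ₘ p)
  have e3 : Epi ((p ⊗ₘ p) ⊗ₘ p) := by
    have : Epi (((r ⊗ₘ r) ⊗ₘ r) ≫ ((p ⊗ₘ p) ⊗ₘ p)) := by
      rw [MonoidalCategory.tensorHom_comp_tensorHom, MonoidalCategory.tensorHom_comp_tensorHom]
      exact epi_of_covers _ (tensorHom_covers _ _ hqq hc)
    exact epi_of_epi ((r ⊗ₘ r) ⊗ₘ r) ((p ⊗ₘ p) ⊗ₘ p)
  have hmul : ∀ (T : Over S) (a b : T ⟶ G ⊗ G), a ≫ (p ⊗ₘ p) = b ≫ (p ⊗ₘ p) →
      a ≫ μ[G] ≫ p = b ≫ μ[G] ≫ p := by
    intro T a b h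
    have ha1 : (a ≫ fst G G) ≫ p = (b ≫ fst G G) ≫ p := by simpa using h =≫ fst G'' G''
    have ha2 : (a ≫ snd G G) ≫ p = (b ≫ snd G G) ≫ p := by simpa using h =≫ snd G'' G''
    obtain ⟨x, hx⟩ := exists_eq_mul hsq _ _ ha1
    obtain ⟨y, hy⟩ := exists_eq_mul hsq _ _ ha2
    obtain ⟨x', hx'⟩ := hN T (b ≫ snd G G)⁻¹ x
    rw [_root_.inv_inv] at hx'
    have hμ : ∀ c : T ⟶ G ⊗ G, c ≫ μ[G] = (c ≫ fst G G) * (c ≫ snd G G) := fun c => by
      rw [← MonObj.comp_mul, ← mul_eq_mul]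
    rw [← Category.assoc, ← Category.assoc, hμ, hμ, hx, hy,
      show (b ≫ fst G G) * (x ≫ u) * ((b ≫ snd G G) * (y ≫ u)) =
        ((b ≫ fst G G) * (b ≫ snd G G) * (x' ≫ u)) * (y ≫ u) by rw [← hx']; group,
      mul_comp_eq hsq, mul_comp_eq hsq]
  have hinv : ∀ (T : Over S) (a b : T ⟶ G), a ≫ p = b ≫ p → a ≫ ι[G] ≫ p = b ≫ ι[G] ≫ p := by
    intro T a b h
    obtain ⟨x, hx⟩ := exists_eq_mul hsq _ _ h
    have hi : ∀ c : T ⟶ G, c ≫ ι[G] = c⁻¹ := fun c => (Hom.inv_def c).symm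
    have hxu : (x ≫ u)⁻¹ = x⁻¹ ≫ u := by rw [GrpObj.inv_comp]
    obtain ⟨x', hx'⟩ := hN T b x⁻¹
    rw [← Category.assoc, ← Category.assoc, hi, hi, hx,
      show (b * (x ≫ u))⁻¹ = b⁻¹ * (x' ≫ u) by rw [← hx', ← hxu]; group, mul_comp_eq hsq]
  have hq1 := effectiveEpi_of_covers hc
  have hq2 := effectiveEpi_of_covers hqq
  obtain ⟨m, hm, -⟩ := GrpdLib.GrpOver.existsUnique_desc (q ⊗ₘ q) ((r ⊗ₘ r) ≫ μ[G] ≫ p) fun T a b h => by
    have := hmul T (a ≫ (r ⊗ₘ r)) (b ≫ (r ⊗ₘ r)) (by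
      simpa only [Category.assoc, MonoidalCategory.tensorHom_comp_tensorHom] using h)
    simpa only [Category.assoc] using this
  obtain ⟨i, hi, -⟩ := GrpdLib.GrpOver.existsUnique_desc q (r ≫ ι[G] ≫ p) fun T a b h => by
    have := hinv T (a ≫ r) (b ≫ r) (by simpa only [q, Category.assoc] using h)
    simpa only [Category.assoc] using this
  have key : ∀ {A B : Over S} (c : A ⟶ B) (d : Covers c.left) {C : Over S} (t : C ⟶ B),
      ∃ (T : Over S) (e : T ⟶ C) (z : T ⟶ A), Epi e ∧ e ≫ t = z ≫ c := by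
    intro A B c d C t
    refine ⟨Over.mk (pullback.fst t.left c.left ≫ C.hom), Over.homMk (pullback.fst _ _) rfl,
      Over.homMk (pullback.snd t.left c.left) ?_, epi_of_covers _ (MorphismProperty.pullback_fst (P := Covers) _ _ d),
      Over.OverMorphism.ext pullback.condition⟩
    show pullback.snd t.left c.left ≫ A.hom = pullback.fst t.left c.left ≫ C.hom
    rw [← Over.w c, ← pullback.condition_assoc, Over.w t]
  have hm' : (p ⊗ₘ p) ≫ m = μ[G] ≫ p := by
    obtain ⟨T, e, z, he, hez⟩ := key (q ⊗ₘ q) hqq (p ⊗ₘ p)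
    rw [← cancel_epi e, reassoc_of% hez, hm]
    have := hmul T e (z ≫ (r ⊗ₘ r)) (by rw [hez, Category.assoc, MonoidalCategory.tensorHom_comp_tensorHom])
    simpa only [Category.assoc] using this.symm
  have hi' : p ≫ i = ι[G] ≫ p := by
    obtain ⟨T, e, z, he, hez⟩ := key q hc p
    rw [← cancel_epi e, reassoc_of% hez, hi]
    have := hinv T e (z ≫ r) (by rw [hez, Category.assoc])
    simpa only [Category.assoc] using this.symm
  obtain ⟨g, hg, hgm⟩ := exists_grpObj_quot p m hm' i hi'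
  exact ⟨g, hg, fun m' hm'' => by rw [← cancel_epi (p ⊗ₘ p), hm'']; exact IsMonHom.mul_hom (f := p)⟩

end Groth.Agent.FpqcCov27
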