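import Mathlib

/-!
# Flat surjective morphisms which lift quasi-compact opens: effective epimorphisms and descent
-/

set_option autoImplicit false

universe u

open CategoryTheory CategoryTheory.Limits AlgebraicGeometry TopologicalSpace

namespace Groth.Agent.FpqcCov27

variable {Z Y : Scheme.{u}} (q : Z ⟶ Y)

/-- Every affine open of the target is the image of a quasi-compact open of the source. -/
abbrev LiftsAffines : Prop :=
  ∀ V : Y.Opens, IsAffineOpen V → ∃ W : Z.Opens, IsCompact (W : Set Z) ∧ q.base '' (W : Set Z) = (V : Set Y)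

variable {q}

lemma singleton_mem [Flat q] [Surjective q] (hcov : LiftsAffines q) :
    Presieve.singleton q ∈ Scheme.fpqcPrecoverage Y := by
  refine ⟨?_, ?_⟩
  · rw [← PreZeroHypercover.presieve₀_singleton.{u, u + 1, 0}, Scheme.presieve₀_mem_qcPrecoverage_iff]
    refine ⟨fun {U} hU => ?_⟩
    obtain ⟨W, hW, hWU⟩ := hcov U hU
    exact IsCompactOpenCovered.of_finite (κ := PUnit.{1}) (fun _ => PUnit.unit) (fun _ => W) (fun _ => hW)
      (by rw [Set.iUnion_const]; exact hWU)
  · exact (Scheme.singleton_mem_precoverage_iff (P := @Flat) q).mpr ⟨fun y => q.surjective y, ‹Flat q›⟩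

/-- Flat surjections lifting quasi-compact opens are effective epimorphisms. -/
theorem effectiveEpi [Flat q] [Surjective q] (hcov : LiftsAffines q) : EffectiveEpi q := by
  rw [← Sieve.effectiveEpimorphic_singleton,
    Presieve.EffectiveEpimorphic.iff_forall_isSheafFor_yoneda]
  intro T
  exact (GrothendieckTopology.Subcanonical.isSheaf_of_isRepresentable _).isSheafFor _
    (Precoverage.generate_mem_toGrothendieck (singleton_mem hcov))

/-- Properties descending along faithfully flat quasi-compact morphisms descend along flat surjections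
lifting quasi-compact opens. -/
theorem of_pullback_snd {P : MorphismProperty Scheme.{u}} [P.IsStableUnderBaseChange] [IsZariskiLocalAtTarget P]
    [P.DescendsAlong (@Surjective ⊓ @Flat ⊓ @QuasiCompact)] [Flat q]
    (hcov : LiftsAffines q) {X : Scheme.{u}} (f : X ⟶ Y) (h : P (pullback.snd f q)) : P f := by
  refine IsZariskiLocalAtTarget.of_iSup_eq_top (P := P) (fun V : Y.affineOpens => V.1)
    (iSup_affineOpens_eq_top Y) fun V => ?_
  obtain ⟨W, hW, hWV⟩ := hcov V.1 V.2
  have hWV' : W ≤ q ⁻¹ᵁ V.1 := fun x hx => by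
    show q x ∈ (V.1 : Set Y)
    rw [← hWV]
    exact ⟨x, hx, rfl⟩
  let qW : (W : Scheme.{u}) ⟶ V.1 := q.resLE V.1 W hWV'
  have : IsAffine (V.1 : Scheme.{u}) := V.2
  have : CompactSpace (W : Scheme.{u}) := isCompact_iff_compactSpace.mp hW
  have : QuasiCompact qW := (quasiCompact_iff_compactSpace qW).mpr inferInstance
  have : Flat qW := by
    show Flat (q.resLE V.1 W hWV')
    delta Scheme.Hom.resLE
    infer_instance
  have : Surjective qW := ⟨fun y => by
    obtain ⟨x, hx, hxy⟩ := (hWV.ge y.2 : y.1 ∈ q.base '' (W : Set Z))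
    exact ⟨⟨x, hx⟩, Subtype.ext (by
      rw [← hxy]
      show ((qW ≫ V.1.ι) ⟨x, hx⟩) = _
      rw [Scheme.Hom.resLE_comp_ι]; rfl)⟩⟩
  refine MorphismProperty.of_pullback_fst_of_descendsAlong (P := P)
    (Q := @Surjective ⊓ @Flat ⊓ @QuasiCompact) (f := qW) ⟨⟨‹_›, ‹_›⟩, ‹_›⟩ ?_
  have h1 : IsPullback (pullback.snd qW (f ∣_ V.1) ≫ (f ⁻¹ᵁ V.1).ι) (pullback.fst qW (f ∣_ V.1)) f (W.ι ≫ q) := by
    rw [← Scheme.Hom.resLE_comp_ι q hWV']
    exact (IsPullback.of_hasPullback qW (f ∣_ V.1)).flip.paste_horiz (isPullback_morphismRestrict f V.1).flip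
  have h2 : IsPullback (pullback.fst (pullback.snd f q) W.ι ≫ pullback.fst f q)
      (pullback.snd (pullback.snd f q) W.ι) f (W.ι ≫ q) :=
    (IsPullback.of_hasPullback _ _).paste_horiz (IsPullback.of_hasPullback f q)
  rw [← h1.isoIsPullback_hom_snd _ _ h2, P.cancel_left_of_respectsIso]
  exact MorphismProperty.pullback_snd _ _ h

/-- Closedness is local for flat surjections lifting quasi-compact opens. -/
theorem isClosed_of_preimage [Flat q] (hcov : LiftsAffines q) {T : Scheme.{u}} (ρ : T ⟶ Y) (A : Set T)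
    (hA : IsClosed (pullback.fst ρ q ⁻¹' A)) : IsClosed A := by
  refine (TopologicalSpace.IsOpenCover.isClosed_iff_coe_preimage
    (U := fun V : Y.affineOpens => ρ ⁻¹ᵁ V.1) ?_).mpr fun V => ?_
  · refine top_le_iff.mp fun x _ => TopologicalSpace.Opens.mem_iSup.mpr ?_
    obtain ⟨V, hV, hxV, -⟩ := exists_isAffineOpen_mem_and_subset (x := ρ x) (U := ⊤) trivial
    exact ⟨⟨V, hV⟩, hxV⟩
  obtain ⟨W, hW, hWV⟩ := hcov V.1 V.2
  have hWV' : W ≤ q ⁻¹ᵁ V.1 := fun x hx => by
    show q x ∈ (V.1 : Set Y)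
    rw [← hWV]
    exact ⟨x, hx, rfl⟩
  let qW : (W : Scheme.{u}) ⟶ V.1 := q.resLE V.1 W hWV'
  have : IsAffine (V.1 : Scheme.{u}) := V.2
  have : CompactSpace (W : Scheme.{u}) := isCompact_iff_compactSpace.mp hW
  have : QuasiCompact qW := (quasiCompact_iff_compactSpace qW).mpr inferInstance
  have : Flat qW := by
    show Flat (q.resLE V.1 W hWV')
    delta Scheme.Hom.resLE
    infer_instance
  have : Surjective qW := ⟨fun y => by
    obtain ⟨x, hx, hxy⟩ := (hWV.ge y.2 : y.1 ∈ q.base '' (W : Set Z))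
    exact ⟨⟨x, hx⟩, Subtype.ext (by
      rw [← hxy]
      show ((qW ≫ V.1.ι) ⟨x, hx⟩) = _
      rw [Scheme.Hom.resLE_comp_ι]; rfl)⟩⟩
  let g' := pullback.fst (ρ ∣_ V.1) qW
  refine (Flat.isQuotientMap_of_surjective g').isClosed_preimage.mp ?_
  let l : pullback (ρ ∣_ V.1) qW ⟶ pullback ρ q :=
    pullback.lift (g' ≫ (ρ ⁻¹ᵁ V.1).ι) (pullback.snd (ρ ∣_ V.1) qW ≫ W.ι) (by
      rw [Category.assoc, Category.assoc, ← morphismRestrict_ι, ← Scheme.Hom.resLE_comp_ι q hWV',
        reassoc_of% pullback.condition])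
  have h := hA.preimage l.continuous
  rw [← Set.preimage_comp, ← TopCat.coe_comp, ← Scheme.Hom.comp_base, pullback.lift_fst] at h
  exact h

end Groth.Agent.FpqcCov27
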